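import Mathlib
import Cfsg.Agent.Lib.MinS.Mod1
import Cfsg.Agent.Lib.MinS.Mod2d

/-! MINSIMPLE / MOD2: offenders, quadratic action, the set `Ω`, the F+1 lemma
(proved in the files `Mod2a` - `Mod2d`). -/
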